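/-
S5720 (fixed spaces of dimension at least a sixth): definitions and rank bookkeeping.
-/
import Cfsg.Agent.KSG.SL2Wt

set_option autoImplicit false

namespace CL.Fx6
open Module
open scoped MatrixGroups

variable {K V : Type*} [Field K] [AddCommGroup V] [Module K V]

/-- rank -/
noncomputable def rk (A : End K V) : ℕ := finrank K (LinearMap.range A)

/-- nullity -/
noncomputable def nl (A : End K V) : ℕ := finrank K (LinearMap.ker A)

/-- dimension of the fixed space -/
noncomputable def fx (A : End K V) : ℕ := nl (A - 1)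

/-- no non-identity element fixes a sixth of the space -/
def Bad {H : Type*} [Group H] (ρ : H →* End K V) : Prop := ∀ h, h ≠ 1 → 6 * fx (ρ h) < finrank K V

/-- the group-theoretic consequences of `Bad` -/
structure Gp (H : Type*) [Group H] : Prop where
  inv : ∀ z w : H, z * z = 1 → w * w = 1 → z ≠ 1 → w ≠ 1 → z = w
  f3 : ∀ a h : H, h ^ 3 = 1 → h ≠ 1 → Commute a (h * a * h⁻¹) → (a * h) ^ 3 = 1 → a ∈ Subgroup.zpowers h
  f5 : ∀ a b : H, a ^ 5 = 1 → b ^ 5 = 1 → Commute a b → a ≠ 1 → b ∈ Subgroup.zpowers a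

theorem Gp.of_injective {H L : Type*} [Group H] [Group L] (h : Gp H) (f : L →* H) (hf : Function.Injective f) :
    Gp L where
  inv z w a b c d := hf (h.inv _ _ (by rw [← map_mul, a, map_one]) (by rw [← map_mul, b, map_one])
    ((map_ne_one_iff f hf).2 c) ((map_ne_one_iff f hf).2 d))
  f3 a g h1 h2 h3 h4 := by
    obtain ⟨k, hk⟩ := h.f3 (f a) (f g) (by rw [← map_pow, h1, map_one]) ((map_ne_one_iff f hf).2 h2)
      (by simpa only [map_mul, map_inv] using h3.map f) (by rw [← map_mul, ← map_pow, h4, map_one])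
    exact ⟨k, hf (by rw [map_zpow]; exact hk)⟩
  f5 a b h1 h2 h3 h4 := by
    obtain ⟨k, hk⟩ := h.f5 (f a) (f b) (by rw [← map_pow, h1, map_one]) (by rw [← map_pow, h2, map_one])
      (h3.map f) ((map_ne_one_iff f hf).2 h4)
    exact ⟨k, hf (by rw [map_zpow]; exact hk)⟩

theorem Gp.subgroup {H : Type*} [Group H] (h : Gp H) (L : Subgroup H) : Gp L :=
  h.of_injective L.subtype L.subtype_injective

/-- `W` has codimension at most `n` -/
def Cd (W : Submodule K V) (n : ℕ) : Prop := finrank K V ≤ finrank K W + n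

theorem Cd.top : Cd (⊤ : Submodule K V) 0 := by simp [Cd]

/-- `ι` intertwines `A` and `B` -/
def Itw {V' : Type*} [AddCommGroup V'] [Module K V'] (ι : V →ₗ[K] V') (A : End K V) (B : End K V') : Prop :=
  ∀ x, ι (A x) = B (ι x)

/-- (a multiple of) the projection onto the `μ`-eigenspace of `τ`, when `τ ^ n = 1` -/
noncomputable def pr (τ : End K V) (n : ℕ) (μ : K) : End K V := ∑ k ∈ Finset.range n, μ⁻¹ ^ k • τ ^ k

/-- the superadditive quantity `Θ + dim V` -/
noncomputable def th (N τ : End K V) (n i r : ℕ) (μ ν : K) : ℕ :=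
  rk (N ^ i * pr τ n ν) + rk (N ^ r * pr τ n μ) + rk (τ - ν • 1)

/-- dimension of the `ν`-eigenspace of `τ` on the kernel of `N` -/
noncomputable def tp (N τ : End K V) (ν : K) : ℕ := finrank K (LinearMap.ker N ⊓ τ.eigenspace ν : Submodule K V)

/-- an element of order three -/
def h3 {F : Type*} [Field F] : SL(2, F) := SL2Wt.mk 0 1 (-1) (-1) (by simp)

/-- the raising operator -/
noncomputable def Nop {p : ℕ} [Fact p.Prime] (f : ZMod p →+* K) (ρ : SL(2, ZMod p) →* End K V) : End K V :=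
  ∑ x : (ZMod p)ˣ, (f x)⁻¹ • ρ (SL2Wt.up (x : ZMod p))

/-- the superadditive quantity of the defining characteristic; `ω` generates the units -/
noncomputable def big {p : ℕ} [Fact p.Prime] (f : ZMod p →+* K) (ω : (ZMod p)ˣ)
    (ρ : SL(2, ZMod p) →* End K V) : ℕ :=
  4 * rk (1 + ρ h3 + ρ h3 ^ 2) +
    2 * th (Nop f ρ) (ρ (SL2Wt.dg ω)) (p - 1) (p - 4) 1 (f ω) ((f ω)⁻¹ ^ 3) +
    th (Nop f ρ) (ρ (SL2Wt.dg ω)) (p - 1) (p - 7) 4 (f ω ^ 4) ((f ω)⁻¹ ^ 6)

theorem h3_pow {F : Type*} [Field F] : (h3 : SL(2, F)) ^ 3 = 1 :=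
  SL2Wt.ext4 (by simp [h3, pow_succ, SL2Wt.mul_ap])

variable [FiniteDimensional K V]

theorem rk_add_nl (A : End K V) : rk A + nl A = finrank K V := A.finrank_range_add_finrank_ker

theorem rk_le_nl {A B : End K V} (h : A * B = 0) : rk B ≤ nl A :=
  Submodule.finrank_mono (LinearMap.range_le_ker_iff.2 h)

theorem rk_le_fx {A B : End K V} (h : A * B = B) : rk B ≤ fx A := rk_le_nl (by rw [sub_mul, h, one_mul, sub_self])

/-- the norm of an element of finite order -/
theorem rk_norm_le {A : End K V} {n : ℕ} (h : A ^ n = 1) : rk (∑ k ∈ Finset.range n, A ^ k) ≤ fx A :=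
  rk_le_nl (by rw [mul_geom_sum, h, sub_self])

theorem finrank_le_map_add (W : Submodule K V) (B : End K V) :
    finrank K W = finrank K (W.map B) + finrank K (W ⊓ LinearMap.ker B : Submodule K V) := by
  have := (B.domRestrict W).finrank_range_add_finrank_ker
  rw [LinearMap.range_domRestrict, LinearMap.ker_domRestrict, ← Submodule.finrank_map_subtype_eq W,
    Submodule.map_comap_subtype] at this
  exact this.symm

theorem Cd.inf_ker {W : Submodule K V} {n : ℕ} (h : Cd W n) (B : End K V) :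
    Cd (W ⊓ LinearMap.ker B) (n + rk B) := by
  have h1 := finrank_le_map_add W B
  have h2 : finrank K (W.map B) ≤ rk B := Submodule.finrank_mono LinearMap.map_le_range
  unfold Cd at *
  omega

theorem Cd.mono {W W' : Submodule K V} {n m : ℕ} (h : Cd W n) (hW : W ≤ W') (hn : n ≤ m) : Cd W' m := by
  have := Submodule.finrank_mono hW
  unfold Cd at *
  omega

theorem Cd.le_nl {W : Submodule K V} {n : ℕ} (h : Cd W n) {A : End K V} (hW : ∀ v ∈ W, A v = 0) :
    finrank K V ≤ nl A + n := h.mono (W' := LinearMap.ker A) hW le_rfl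

theorem Cd.le_of_bot {W : Submodule K V} {n : ℕ} (h : Cd W n) (hW : ∀ v ∈ W, v = 0) : finrank K V ≤ n := by
  simpa [Cd] using h.mono (W' := ⊥) hW le_rfl

theorem nl_mul_le (A B : End K V) : nl (A * B) ≤ nl A + nl B := by
  have h1 := finrank_le_map_add (LinearMap.ker (A * B)) B
  have h2 : finrank K ((LinearMap.ker (A * B)).map B) ≤ nl A :=
    Submodule.finrank_mono (by rintro _ ⟨x, hx, rfl⟩; exact hx)
  have h3 : finrank K (LinearMap.ker (A * B) ⊓ LinearMap.ker B : Submodule K V) ≤ nl B :=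
    Submodule.finrank_mono inf_le_right
  unfold nl at *
  omega

theorem nl_of_isUnit {U : End K V} (h : IsUnit U) : nl U = 0 := by
  rw [nl, LinearMap.ker_eq_bot.2 ((End.isUnit_iff U).1 h).1, finrank_bot]

theorem nl_pow_le (A : End K V) (n : ℕ) : nl (A ^ n) ≤ n * nl A := by
  induction n with
  | zero => rw [pow_zero, nl_of_isUnit isUnit_one]; exact Nat.zero_le _
  | succ n ih => have := nl_mul_le (A ^ n) A; rw [pow_succ, add_mul]; omega

theorem le_mul_fx {A : End K V} {n : ℕ} (h : (A - 1) ^ n = 0) : finrank K V ≤ n * fx A := by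
  have := nl_pow_le (A - 1) n
  rwa [h, nl, LinearMap.ker_zero, finrank_top] at this

theorem fx_conj {G : Type*} [Group G] (ρ : G →* End K V) (g h : G) : fx (ρ (g * h * g⁻¹)) = fx (ρ h) := by
  have H : ∀ g h : G, fx (ρ (g * h * g⁻¹)) ≤ fx (ρ h) := fun g h => by
    have e : ρ (g * h * g⁻¹) - 1 = ρ g * (ρ h - 1) * ρ g⁻¹ := by
      rw [mul_sub, sub_mul, mul_one, ← map_mul, ← map_mul, ← map_mul, mul_inv_cancel, map_one]
    have a := nl_mul_le (ρ g * (ρ h - 1)) (ρ g⁻¹)
    have b := nl_mul_le (ρ g) (ρ h - 1)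
    rw [nl_of_isUnit ((Group.isUnit _).map ρ)] at a b
    rw [fx, e, fx]
    omega
  refine (H g h).antisymm ?_
  simpa [mul_assoc] using H g⁻¹ (g * h * g⁻¹)

/-- the rank is superadditive -/
theorem rk_add_le (W : Submodule K V) {A : End K V} {A₁ : End K W} {A₂ : End K (V ⧸ W)}
    (h₁ : Itw W.subtype A₁ A) (h₂ : Itw W.mkQ A A₂) : rk A₁ + rk A₂ ≤ rk A := by
  have e := (W.mkQ.domRestrict (LinearMap.range A)).finrank_range_add_finrank_ker
  rw [LinearMap.range_domRestrict, LinearMap.ker_domRestrict, ← Submodule.finrank_map_subtype_eq (LinearMap.range A),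
    Submodule.map_comap_subtype, Submodule.ker_mkQ] at e
  have a : rk A₂ ≤ finrank K ((LinearMap.range A).map W.mkQ) := Submodule.finrank_mono (by
    rintro _ ⟨x, rfl⟩
    obtain ⟨y, rfl⟩ := W.mkQ_surjective x
    exact ⟨_, ⟨y, rfl⟩, h₂ y⟩)
  have b : rk A₁ ≤ finrank K (LinearMap.range A ⊓ W : Submodule K V) := by
    rw [rk, ← Submodule.finrank_map_subtype_eq W]
    refine Submodule.finrank_mono ?_
    rintro _ ⟨_, ⟨x, rfl⟩, rfl⟩
    exact ⟨⟨x, (h₁ x).symm⟩, (A₁ x).2⟩
  unfold rk at *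
  omega

end CL.Fx6
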