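/-
S5720, defining characteristic: a simple module is a space of binary forms.
-/
import Cfsg.Agent.FGS.Fx6.Base

set_option autoImplicit false

namespace CL.Fx6
open Module CL.SL2Wt Finset Matrix
open scoped MatrixGroups

variable {K V : Type*} [Field K] [AddCommGroup V] [Module K V] {p : ℕ} [Fact p.Prime] (f : ZMod p →+* K)
  (ρ : SL(2, ZMod p) →* End K V)

/-- `V` is the space of forms of degree `s` in the bottom row of `g` -/
def IsSym (s : ℕ) (φ : Dual K V) : Prop :=
  (∀ x, (∀ g, φ (ρ g x) = 0) → x = 0) ∧ ∀ c d : Fin 2 → K, c 0 * d 1 - c 1 * d 0 ≠ 0 →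
    ∃ b : Basis (Fin (s + 1)) K V, ∀ j g, φ (ρ g (b j)) =
      (f (g 1 0) * d 0 + f (g 1 1) * d 1) ^ j.1 * (f (g 1 0) * c 0 + f (g 1 1) * c 1) ^ (s - j.1)

/-- the proof of `CL.SL2Wt.of_simple`, with all binomial coefficients non-zero -/
theorem exists_sym [IsAlgClosed K] [FiniteDimensional K V] [Nontrivial V]
    (hs : ∀ W : Submodule K V, (∀ g, ∀ x ∈ W, ρ g x ∈ W) → W = ⊥ ∨ W = ⊤) : ∃ s < p, ∃ φ, IsSym f ρ s φ := by
  classical
  obtain ⟨φ, φ0, s, s0, s1, h⟩ := exists_functional f ρ
  have mul : ∀ g g' x, ρ g (ρ g' x) = ρ (g * g') x := fun g g' x => by rw [map_mul]; rfl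
  have inj : ∀ x, (∀ g, φ (ρ g x) = 0) → x = 0 := fun x hx => by
    rcases hs (⨅ g, LinearMap.ker (φ ∘ₗ ρ g)) (fun g x hx => by
      simp only [Submodule.mem_iInf, LinearMap.mem_ker, LinearMap.comp_apply, mul] at hx ⊢
      exact fun _ => hx _) with e | e
    · exact (Submodule.eq_bot_iff _).1 e x (by simpa [Submodule.mem_iInf] using hx)
    · refine (φ0 (LinearMap.ext fun x => ?_)).elim
      simpa using (Submodule.mem_iInf _).1 (e.ge (Submodule.mem_top (x := x))) 1
  have inj' : ∀ x x', (∀ g, φ (ρ g x) = φ (ρ g x')) → x = x' := fun x x' e =>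
    sub_eq_zero.1 (inj _ fun g => by rw [map_sub, map_sub, e, sub_self])
  obtain ⟨y, y0, hy⟩ := exists_fix f (fun t => ρ (up t)) (by rw [up_zero, map_one]) fun s t => by rw [up_add, map_mul]
  obtain ⟨r, hr, z, hz⟩ := exists_top f ρ s0 s1 h hy (by by_contra! hc; exact y0 (inj y hc))
  have hr' : r < p := by rwa [ZMod.card] at hr
  refine ⟨r, hr', φ, inj, fun c d D => ?_⟩
  have hch : ∀ j : Fin (r + 1), (r.choose j : K) ≠ 0 := fun j e => by
    rw [← map_natCast f, map_eq_zero, ZMod.natCast_eq_zero_iff] at e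
    have := (Fact.out : p.Prime).dvd_factorial.1 (e.trans ⟨j.1.factorial * (r - j).factorial, by
      rw [← mul_assoc, Nat.choose_mul_factorial_mul_factorial (Nat.lt_succ_iff.1 j.2)]⟩)
    omega
  obtain ⟨e⟩ : Nonempty (Fin (r + 1) ↪ ZMod p) := Function.Embedding.nonempty_of_card_le (by simpa using hr')
  let lo : Fin (r + 1) → SL(2, ZMod p) := fun i => mk 1 0 (e i) 1 (by simp)
  have he : ∀ i j, i ≠ j → f (e i) - f (e j) ≠ 0 := fun i j ne => sub_ne_zero.2 fun e' =>
    ne (e.injective (f.injective e'))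
  let l : (Fin 2 → K) → SL(2, ZMod p) → K := fun c g => f (g 1 0) * c 0 + f (g 1 1) * c 1
  let a : SL(2, ZMod p) → K := fun h => (f (h 0 0) * d 1 - f (h 1 0) * d 0) / (c 0 * d 1 - c 1 * d 0)
  let b : SL(2, ZMod p) → K := fun h => (c 0 * f (h 1 0) - c 1 * f (h 0 0)) / (c 0 * d 1 - c 1 * d 0)
  let m : Fin (r + 1) → SL(2, ZMod p) → K := fun j g => l d g ^ j.1 * l c g ^ j.rev.1 * r.choose j
  have h1 : ∀ h g, φ (ρ g (ρ h z)) = ∑ j : Fin (r + 1), b h ^ j.1 * a h ^ j.rev.1 * m j g := fun h g => by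
    have : f ((g * h) 1 0) = b h * l d g + a h * l c g := by
      simp only [mul_ap, map_add, map_mul, a, b, l]; field_simp; ring
    rw [mul, hz, this, add_pow, ← Fin.sum_univ_eq_sum_range
      (fun j => (b h * l d g) ^ j * (a h * l c g) ^ (r - j) * r.choose j)]
    exact sum_congr rfl fun j _ => by simp only [m, Fin.val_rev, Nat.add_sub_add_right]; ring
  let M := projVandermonde (b ∘ lo) (a ∘ lo)
  have hM : IsUnit M.det := Ne.isUnit <| vdm_ne _ _ fun i j ne e' => by
    apply he i j ne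
    simp only [a, b, lo, Function.comp, mk00, mk10, map_one] at e'
    field_simp at e'
    exact mul_left_cancel₀ D (by linear_combination -e')
  let v : Fin (r + 1) → V := fun j => ∑ i, M⁻¹ j i • ρ (lo i) z
  have hv : ∀ j g, φ (ρ g (v j)) = m j g := fun j g => by
    have : ∀ i, φ (ρ g (ρ (lo i) z)) = (M *ᵥ fun k => m k g) i := fun i => h1 _ _
    simp only [v, map_sum, map_smul, this, smul_eq_mul]
    change (M⁻¹ *ᵥ (M *ᵥ fun k => m k g)) j = _
    rw [mulVec_mulVec, nonsing_inv_mul _ hM, one_mulVec]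
  let v' : Fin (r + 1) → V := fun j => (r.choose j : K)⁻¹ • v j
  have hv' : ∀ j g, φ (ρ g (v' j)) = l d g ^ j.1 * l c g ^ (r - j.1) := fun j g => by
    simp only [v', map_smul, hv, m, smul_eq_mul, Fin.val_rev, Nat.add_sub_add_right]
    have := hch j
    field_simp
  have li : LinearIndependent K v' := Fintype.linearIndependent_iff.2 fun u hu =>
    congrFun (eq_zero_of_mulVec_eq_zero (vdm_ne (l d ∘ lo) (l c ∘ lo) fun i j ne e' => by
      apply he i j ne
      simp only [l, lo, Function.comp, mk11, mk10, map_one] at e'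
      exact mul_left_cancel₀ D (by linear_combination e')) (v := u) (funext fun i => by
      have := congrArg (fun x => φ (ρ (lo i) x)) hu
      simp only [map_sum, map_smul (ρ _), map_smul φ, hv', map_zero, smul_eq_mul] at this
      rw [Pi.zero_apply, ← this, mulVec, dotProduct]
      exact sum_congr rfl fun j _ => by
        simp only [projVandermonde_apply, Function.comp, Fin.val_rev, Nat.add_sub_add_right]; ring))
  have sp : ⊤ ≤ Submodule.span K (Set.range v') := by
    rcases hs (Submodule.span K (Set.range fun h => ρ h z)) (fun g x hx => by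
      refine Submodule.mem_comap.1 (Submodule.span_le.2 ?_ hx)
      rintro _ ⟨h, rfl⟩
      exact Submodule.subset_span ⟨g * h, (mul _ _ _).symm⟩) with e | e
    · have := hz (mk 0 (-1) 1 0 (by simp))
      rw [(Submodule.eq_bot_iff _).1 e (ρ _ z) (Submodule.subset_span ⟨_, rfl⟩)] at this
      simp at this
    rw [← e, Submodule.span_le]
    rintro _ ⟨h, rfl⟩
    change ρ h z ∈ Submodule.span _ _
    rw [inj' (ρ h z) (∑ j : Fin (r + 1), (b h ^ j.1 * a h ^ j.rev.1 * r.choose j) • v' j) fun g => by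
      simp only [h1, map_sum, map_smul (ρ _), map_smul φ, hv', smul_eq_mul, m, Fin.val_rev, Nat.add_sub_add_right]
      exact sum_congr rfl fun j _ => by ring]
    exact Submodule.sum_mem _ fun j _ => Submodule.smul_mem _ _ (Submodule.subset_span ⟨j, rfl⟩)
  exact ⟨Basis.mk li sp, fun j g => by rw [Basis.mk_apply]; exact hv' j g⟩

end CL.Fx6
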